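import Mathlib
import Cfsg.Agent.S0117
import Cfsg.Agent.Lib.SolvableMinNormal
import Cfsg.Agent.Solvable.FpfThompson
import Cfsg.Agent.Transfer.Residual
set_option linter.all false

-- part: H550/KegelSum
section
/-!
# The norm sum argument for splitting automorphisms

`pow_card_eq_one`: `V` abelian, `A` a finite group of automorphisms of `V`, `t` normalizing `A`,
`(a t)^p = 1` and `v · (a t) v ⋯ (a t)^(p-1) v = 1` for all `a ∈ A`, `v ∈ V`, and `C_V(A) = 1`.
Then `v ^ |A| = 1` for all `v`.
-/

set_option autoImplicit false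

namespace Cfsg.Agent.H550.KegelSum

open Subgroup

theorem eq_of_pow_eq {E : Type*} [Group E] {x y : E} {p i : ℕ} (hp : p.Prime) (hi0 : 0 < i)
    (hip : i < p) (hx : x ^ p = 1) (hy : y ^ p = 1) (hxy : x ^ i = y ^ i) : x = y := by
  have hcop : Nat.Coprime i p :=
    (hp.coprime_iff_not_dvd.2 (Nat.not_dvd_of_pos_of_lt hi0 hip)).symm
  obtain ⟨m, n, hmn⟩ : IsCoprime (i : ℤ) (p : ℤ) := Nat.isCoprime_iff_coprime.2 hcop
  have key : ∀ z : E, z ^ p = 1 → z = (z ^ i) ^ m := by
    intro z hz
    calc z = z ^ (m * (i : ℤ) + n * (p : ℤ)) := by rw [hmn, zpow_one]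
      _ = (z ^ i) ^ m := by
        rw [zpow_add, mul_comm m, mul_comm n, zpow_mul, zpow_mul, zpow_natCast, zpow_natCast, hz,
          one_zpow, mul_one]
  rw [key x hx, key y hy, hxy]

theorem pow_card_eq_one {V : Type*} [CommGroup V] (A : Subgroup (MulAut V)) [Finite A]
    (t : MulAut V) (ht : t ∈ normalizer (A : Set (MulAut V))) {p : ℕ} (hp : p.Prime)
    (h1 : ∀ a ∈ A, (a * t) ^ p = 1)
    (h2 : ∀ a ∈ A, ∀ v : V, ∏ i ∈ Finset.range p, ((a * t) ^ i) v = 1)
    (hfix : ∀ v : V, (∀ a ∈ A, a v = v) → v = 1) (v : V) : v ^ Nat.card A = 1 := by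
  classical
  have := Fintype.ofFinite A
  have hmem : ∀ (i : ℕ) (a : MulAut V), a ∈ A → (a * t) ^ i * (t ^ i)⁻¹ ∈ A := by
    intro i
    induction i with
    | zero => intro a _; simp
    | succ i ih =>
      intro a ha
      have h3 : (a * t) ^ (i + 1) * (t ^ (i + 1))⁻¹ =
          (a * t) ^ i * (t ^ i)⁻¹ * (t ^ i * a * (t ^ i)⁻¹) := by
        rw [pow_succ, pow_succ]
        group
      rw [h3]
      refine mul_mem (ih a ha) ?_
      exact (mem_normalizer_iff.1 (pow_mem ht i) a).1 ha
  have hprod : ∀ i : ℕ, 0 < i → i < p → ∏ a : A, (((a : MulAut V) * t) ^ i) v = 1 := by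
    intro i hi0 hip
    have hbij : Function.Bijective
        (fun a : A => (⟨((a : MulAut V) * t) ^ i * (t ^ i)⁻¹, hmem i a a.2⟩ : A)) := by
      refine Finite.injective_iff_bijective.1 ?_
      intro a b hab
      have h4 : ((a : MulAut V) * t) ^ i * (t ^ i)⁻¹ = ((b : MulAut V) * t) ^ i * (t ^ i)⁻¹ :=
        congrArg Subtype.val hab
      have h5 := mul_right_cancel h4
      have h6 := eq_of_pow_eq hp hi0 hip (h1 a a.2) (h1 b b.2) h5
      exact Subtype.ext (mul_right_cancel h6)
    have h4 : ∏ a : A, (((a : MulAut V) * t) ^ i) v = ∏ a : A, (a : MulAut V) ((t ^ i) v) := by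
      rw [← hbij.prod_comp (fun a : A => (a : MulAut V) ((t ^ i) v))]
      apply Finset.prod_congr rfl
      intro a _
      change _ = (((a : MulAut V) * t) ^ i * (t ^ i)⁻¹) ((t ^ i) v)
      rw [← MulAut.mul_apply, inv_mul_cancel_right]
    apply hfix
    intro b hb
    rw [h4, map_prod]
    exact Fintype.prod_equiv (Equiv.mulLeft (⟨b, hb⟩ : A)) _ _ (fun a => rfl)
  have h5 : ∏ a : A, ∏ i ∈ Finset.range p, (((a : MulAut V) * t) ^ i) v = 1 :=
    Finset.prod_eq_one (fun a _ => h2 a a.2 v)
  rw [Finset.prod_comm, Finset.prod_eq_single 0] at h5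
  · simpa [Nat.card_eq_fintype_card] using h5
  · intro i hi hi0
    exact hprod i (Nat.pos_of_ne_zero hi0) (Finset.mem_range.1 hi)
  · intro h
    exact absurd (Finset.mem_range.2 hp.pos) h

open scoped IsMulCommutative in
/-- `(v y)^n = (∏_{i<n} y^i v y^(-i)) y^n` for `v` in an abelian normal subgroup. -/
theorem mul_pow_eq {G : Type*} [Group G] (V : Subgroup G) [V.Normal] [IsMulCommutative V] (v : V) (y : G)
    (n : ℕ) : ((v : G) * y) ^ n =
      ((∏ i ∈ Finset.range n, ((MulAut.conjNormal y : MulAut V) ^ i) v : V) : G) * y ^ n := by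
  induction n with
  | zero => simp
  | succ n ih =>
    rw [pow_succ, ih, Finset.prod_range_succ, Subgroup.coe_mul, ← map_pow,
      MulAut.conjNormal_apply, pow_succ]
    group

end Cfsg.Agent.H550.KegelSum
end

-- part: H550/Kegel
section
/-!
# Kegel's theorem on splitting automorphisms of prime order

`isNilpotent_of_coset`: if `G` is finite, `H ≤ G`, `t` normalizes `H` and `(h t)^p = 1` for all
`h ∈ H` (`p` prime), then `H` is nilpotent.
-/

set_option autoImplicit false

namespace Cfsg.Agent.H550.Kegel

open Subgroup Cfsg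

universe u

open scoped IsMulCommutative in
/-- A minimal normal subgroup of `G` contained in `H` is central in `H`. -/
theorem central_of_minimal {G : Type u} [Group G] [Finite G] (H : Subgroup G) [H.Normal]
    [Group.IsSolvable H] (t : G) {p : ℕ} (hp : p.Prime) (hsplit : ∀ h ∈ H, (h * t) ^ p = 1)
    (V : Subgroup G) [hVn : V.Normal] (hVH : V ≤ H) (hV1 : V ≠ ⊥)
    (hmin : ∀ W : Subgroup G, W.Normal → W ≤ V → W = ⊥ ∨ W = V) :
    ∀ v ∈ V, ∀ h ∈ H, h * v = v * h := by
  classical
  -- `V` is an abelian `r`-group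
  have hVsol : Group.IsSolvable V :=
    Group.isSolvable_of_isSolvable_injective (inclusion_injective hVH)
  have hVnt : Nontrivial V := (nontrivial_iff_ne_bot V).2 hV1
  obtain ⟨r, hr, N, hNchar, hNcomm, hNr, hN1⟩ :=
    Lib.SolvableMinNormal.exists_characteristic_pgroup (G := V)
  have hNV : N = ⊤ := by
    have h1 : (N.map V.subtype).Normal := inferInstance
    rcases hmin _ h1 (map_subtype_le N) with h2 | h2
    · exact absurd ((map_eq_bot_iff_of_injective N V.subtype_injective).1 h2) hN1
    · rw [eq_top_iff]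
      intro x _
      have h3 : (x : G) ∈ N.map V.subtype := by rw [h2]; exact x.2
      obtain ⟨y, hy, hyx⟩ := h3
      rwa [← V.subtype_injective hyx]
  subst hNV
  have hVcomm : IsMulCommutative V := by
    constructor
    constructor
    intro a b
    exact congrArg Subtype.val (mul_comm' (⟨a, mem_top a⟩ : (⊤ : Subgroup V)) ⟨b, mem_top b⟩)
  have hVr : IsPGroup r V := hNr.of_equiv Subgroup.topEquiv
  have hrf : Fact r.Prime := ⟨hr⟩
  set ρ : G →* MulAut V := MulAut.conjNormal with hρ
  by_contra hcon
  -- the image `R` of `G`, and the image `K` of `H`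
  set f : G →* ρ.range := ρ.rangeRestrict with hf
  have hfs : Function.Surjective f := ρ.rangeRestrict_surjective
  set K : Subgroup ρ.range := H.map f with hK
  have hKn : K.Normal := Normal.map inferInstance f hfs
  have hKsol : Group.IsSolvable K := by
    exact Group.isSolvable_of_surjective (f.subgroupMap_surjective H)
  have hKnt : Nontrivial K := by
    rw [nontrivial_iff_ne_bot]
    intro hbot
    apply hcon
    intro v hv h hh
    have h1 : f h ∈ K := mem_map_of_mem f hh
    rw [hbot, mem_bot] at h1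
    have h2 : ρ h = 1 := congrArg Subtype.val h1
    have h3 : ((ρ h) ⟨v, hv⟩ : G) = v := by rw [h2]; rfl
    rw [hρ, MulAut.conjNormal_apply] at h3
    simp only at h3
    exact mul_inv_eq_iff_eq_mul.1 h3
  obtain ⟨s, hs, N', hN'char, hN'comm, hN's, hN'1⟩ :=
    Lib.SolvableMinNormal.exists_characteristic_pgroup (G := K)
  have hsf : Fact s.Prime := ⟨hs⟩
  set X₀ : Subgroup ρ.range := N'.map K.subtype with hX₀
  have hX₀n : X₀.Normal := inferInstance
  have hX₀1 : X₀ ≠ ⊥ := fun h => hN'1 ((map_eq_bot_iff_of_injective N' K.subtype_injective).1 h)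
  set X : Subgroup (MulAut V) := X₀.map ρ.range.subtype with hX
  have hXs : IsPGroup s X := (hN's.map K.subtype).map ρ.range.subtype
  have hX1 : X ≠ ⊥ := fun h => hX₀1 ((map_eq_bot_iff_of_injective X₀ ρ.range.subtype_injective).1 h)
  set XG : Subgroup G := X₀.comap f with hXG
  have hXGn : XG.Normal := hX₀n.comap f
  have hmem : ∀ x ∈ X, ∃ h ∈ H, ρ h = x ∧ h ∈ XG := by
    rintro _ ⟨y, hy, rfl⟩
    have h1 : y ∈ K := map_subtype_le N' hy
    obtain ⟨h, hh, rfl⟩ := h1
    exact ⟨h, hh, rfl, hy⟩
  -- the centralizer of `X` in `V`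
  set C : Subgroup G := V ⊓ centralizer (XG : Set G) with hC
  have hCn : C.Normal := inferInstance
  rcases hmin C hCn inf_le_left with hC' | hC'
  swap
  · -- `X` centralizes `V`
    apply hX1
    rw [eq_bot_iff]
    intro x hx
    obtain ⟨h, hh, rfl, hXGh⟩ := hmem x hx
    rw [mem_bot]
    ext v
    rw [hρ, MulAut.conjNormal_apply]
    have h1 : (v : G) ∈ C := by rw [hC']; exact v.2
    have h2 := mem_centralizer_iff.1 h1.2 h hXGh
    rw [h2, mul_inv_cancel_right]
    rfl
  · have hfix : ∀ v : V, (∀ a ∈ X, a v = v) → v = 1 := by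
      intro v hv
      have h1 : (v : G) ∈ C := by
        refine ⟨v.2, ?_⟩
        change _ ∈ centralizer _
        rw [mem_centralizer_iff]
        intro x hx
        have hx' : f x ∈ X₀ := hx
        have h2 : ρ x ∈ X := ⟨f x, hx', rfl⟩
        have h3 := congrArg Subtype.val (hv _ h2)
        rw [hρ, MulAut.conjNormal_apply] at h3
        exact mul_inv_eq_iff_eq_mul.1 h3
      rw [hC', mem_bot] at h1
      exact Subtype.ext h1
    have hne : s ≠ r := by
      rintro rfl
      have h2 : s ∣ Nat.card V := by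
        obtain ⟨n, hn⟩ := IsPGroup.iff_card.mp hVr
        rw [hn]
        refine dvd_pow_self s ?_
        rintro rfl
        rw [pow_zero] at hn
        exact hV1 (Subgroup.eq_bot_of_card_eq V hn)
      obtain ⟨v, hv, hv1⟩ := hXs.exists_fixed_point_of_prime_dvd_card_of_fixed_point V h2
        (a := (1 : V)) (by
          intro x
          exact map_one (x : MulAut V))
      refine hv1 (hfix v fun a ha => ?_).symm
      exact hv ⟨a, ha⟩
    have hnorm : ρ t ∈ normalizer (X : Set (MulAut V)) := by
      rw [mem_normalizer_iff]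
      have key : ∀ g : G, ∀ x ∈ X, ρ g * x * (ρ g)⁻¹ ∈ X := by
        rintro g _ ⟨y, hy, rfl⟩
        exact ⟨f g * y * (f g)⁻¹, hX₀n.conj_mem y hy (f g), rfl⟩
      intro x
      refine ⟨key t x, fun h => ?_⟩
      have h1 := key t⁻¹ _ h
      rw [map_inv, inv_inv] at h1
      have h2 : (ρ t)⁻¹ * (ρ t * x * (ρ t)⁻¹) * ρ t = x := by group
      rwa [h2] at h1
    have hpow := KegelSum.pow_card_eq_one X (ρ t) hnorm hp ?_ ?_ hfix
    · apply hV1
      rw [eq_bot_iff]
      intro v hv
      rw [mem_bot]
      have h1 := hpow ⟨v, hv⟩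
      obtain ⟨n, hn⟩ := IsPGroup.iff_card.mp hXs
      rw [hn] at h1
      obtain ⟨m, hm⟩ := (IsPGroup.iff_orderOf.1 hVr) ⟨v, hv⟩
      have h2 := orderOf_dvd_of_pow_eq_one h1
      rw [hm] at h2
      have h3 : Nat.Coprime (r ^ m) (s ^ n) := Nat.Coprime.pow _ _ ((Nat.coprime_primes hr hs).2 hne.symm)
      have h4 : r ^ m = 1 := Nat.eq_one_of_dvd_coprimes h3 dvd_rfl h2
      rw [h4, orderOf_eq_one_iff] at hm
      exact congrArg Subtype.val hm
    · intro a ha
      obtain ⟨h, hh, rfl, -⟩ := hmem a ha
      rw [← map_mul, ← map_pow, hsplit h hh, map_one]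
    · intro a ha v
      obtain ⟨h, hh, rfl, -⟩ := hmem a ha
      have h1 := KegelSum.mul_pow_eq V v (h * t) p
      rw [hsplit h hh, mul_one, ← mul_assoc, hsplit _ (mul_mem (hVH v.2) hh)] at h1
      rw [← map_mul]
      exact (Subtype.ext h1).symm


theorem card_map_mk_lt {G : Type u} [Group G] [Finite G] (N H : Subgroup G) [N.Normal]
    (hNH : N ≤ H) (hN1 : N ≠ ⊥) :
    Nat.card (H.map (QuotientGroup.mk' N)) < Nat.card H := by
  rw [← Subgroup.relIndex_ker, QuotientGroup.ker_mk']
  have h1 : Nat.card N * N.relIndex H = Nat.card H := by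
    rw [← relIndex_bot_left, ← relIndex_bot_left]
    exact relIndex_mul_relIndex ⊥ N H bot_le hNH
  have h2 : 1 < Nat.card N := (one_lt_card_iff_ne_bot N).2 hN1
  have h3 : 0 < N.relIndex H := by
    refine Nat.pos_of_ne_zero fun h => ?_
    rw [h, mul_zero] at h1
    exact Nat.card_pos.ne h1
  nlinarith

theorem isSolvable_of_isNilpotent_map {G : Type u} [Group G] (N H : Subgroup G)
    [N.Normal] (hNH : N ≤ H) (hN : Group.IsSolvable N)
    (h : Group.IsNilpotent (H.map (QuotientGroup.mk' N))) : Group.IsSolvable H := by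
  have h1 : Group.IsSolvable (H.map (QuotientGroup.mk' N)) := inferInstance
  refine Group.isSolvable_of_ker_le_range (inclusion hNH)
    ((QuotientGroup.mk' N).subgroupMap H) ?_
  intro x hx
  have h2 : (QuotientGroup.mk' N) (x : G) = 1 := congrArg Subtype.val hx
  have h3 : (x : G) ∈ N := (QuotientGroup.eq_one_iff _).1 h2
  exact ⟨⟨x, h3⟩, rfl⟩

theorem step {G : Type u} [Group G] [Finite G] (H : Subgroup G) [hHn : H.Normal] (t : G) {p : ℕ}
    (hp : p.Prime) (hsplit : ∀ h ∈ H, (h * t) ^ p = 1) (hgen : H ⊔ zpowers t = ⊤)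
    (IH : ∀ (G' : Type u) [Group G'] [Finite G'] (H' : Subgroup G') (t' : G'),
      Nat.card H' < Nat.card H → t' ∈ normalizer (H' : Set G') →
      (∀ h ∈ H', (h * t') ^ p = 1) → Group.IsNilpotent H') : Group.IsNilpotent H := by
  classical
  have hquot : ∀ (N : Subgroup G) [N.Normal], N ≤ H → N ≠ ⊥ →
      Group.IsNilpotent (H.map (QuotientGroup.mk' N)) := by
    intro N _ hNH hN1
    have hn : (H.map (QuotientGroup.mk' N)).Normal :=
      hHn.map _ (QuotientGroup.mk'_surjective N)
    refine IH (G ⧸ N) (H.map (QuotientGroup.mk' N)) (QuotientGroup.mk' N t)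
      (card_map_mk_lt N H hNH hN1) ?_ ?_
    · rw [normalizer_eq_top]
      exact mem_top _
    · rintro _ ⟨h, hh, rfl⟩
      rw [← map_mul, ← map_pow, hsplit h hh, map_one]
  -- `H` is solvable
  have hsol : Group.IsSolvable H := by
    by_cases hodd : ∃ r : ℕ, r.Prime ∧ r ≠ 2 ∧ r ∣ Nat.card H
    · obtain ⟨r, hr, hr2, hrH⟩ := hodd
      have hrf : Fact r.Prime := ⟨hr⟩
      obtain ⟨R⟩ : Nonempty (Sylow r H) := inferInstance
      have hfr := Sylow.normalizer_sup_eq_top R
      have ht : t ∈ (⊤ : Subgroup G) := mem_top t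
      rw [← hfr, mem_sup_of_normal_right] at ht
      obtain ⟨t', ht', h₁, hh₁, rfl⟩ := ht
      -- replace `t` by `t'`
      have hsplit' : ∀ h ∈ H, (h * t') ^ p = 1 := by
        intro h hh
        have h2 := hsplit (h * (t' * h₁⁻¹ * t'⁻¹))
          (mul_mem hh (hHn.conj_mem _ (inv_mem hh₁) t'))
        have h3 : h * (t' * h₁⁻¹ * t'⁻¹) * (t' * h₁) = h * t' := by group
        rwa [h3] at h2
      have hgen' : H ⊔ zpowers t' = ⊤ := by
        rw [eq_top_iff, ← hgen]
        refine sup_le le_sup_left ?_
        rw [zpowers_le]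
        exact mul_mem ((le_sup_right : _ ≤ H ⊔ zpowers t') (mem_zpowers t'))
          ((le_sup_left : H ≤ _) hh₁)
      -- a subgroup normalized by `H` and `t'` is normal
      have hnormal : ∀ N : Subgroup G, H ≤ normalizer (N : Set G) → t' ∈ normalizer (N : Set G) →
          N.Normal := by
        intro N h2 h3
        rw [← normalizer_eq_top_iff, eq_top_iff, ← hgen']
        exact sup_le h2 ((zpowers_le).2 h3)
      set e : H ≃* H := (MulAut.conjNormal t' : MulAut H) with he
      have hmapG : ∀ N : Subgroup H, N.map e.toMonoidHom = N →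
          t' ∈ normalizer ((N.map H.subtype : Subgroup G) : Set G) := by
        intro N hN
        rw [mem_normalizer_iff_map_conj_eq, Subgroup.map_map]
        conv_rhs => rw [← hN, Subgroup.map_map]
        rfl
      have hRe : (R : Subgroup H).map e.toMonoidHom = R := by
        apply map_injective H.subtype_injective
        rw [mem_normalizer_iff_map_conj_eq, Subgroup.map_map] at ht'
        rw [Subgroup.map_map]
        exact ht'
      set Z : Subgroup H := centerThompsonOf r (R : Subgroup H) with hZ
      have hZe : Z.map e.toMonoidHom = Z := by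
        rw [hZ, Cfsg.Agent.S0117.map_centerThompsonOf r e.toMonoidHom (R : Subgroup H)
          (e.injective.injOn), hRe]
      have hR1 : (R : Subgroup H) ≠ ⊥ := by
        intro h
        have h2 := R.card_eq_multiplicity
        rw [h, Subgroup.card_bot] at h2
        have h3 : 0 < (Nat.card H).factorization r :=
          hr.factorization_pos_of_dvd Nat.card_pos.ne' hrH
        exact absurd h2.symm (Nat.one_lt_pow h3.ne' hr.one_lt).ne'
      have hZ1 : Z ≠ ⊥ := Cfsg.Agent.S0117.centerThompsonOf_ne_bot R.2 hR1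
      set M : Subgroup H := normalizer (Z : Set H) with hM
      have hMe : M.map e.toMonoidHom = M := by
        rw [hM, Subgroup.map_equiv_normalizer_eq Z e, hZe]
      have hZr : IsPGroup r Z := R.2.to_le (Cfsg.Agent.S0117.centerThompsonOf_le r _)
      by_cases hMtop : M = ⊤
      · have hZn : Z.Normal := normalizer_eq_top_iff.1 hMtop
        have hZGn : (Z.map H.subtype).Normal := by
          refine hnormal _ ?_ (hmapG Z hZe)
          intro h hh
          rw [mem_normalizer_iff]
          have key : ∀ g ∈ H, ∀ x ∈ Z.map H.subtype, g * x * g⁻¹ ∈ Z.map H.subtype := by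
            rintro g hg _ ⟨z, hz, rfl⟩
            exact ⟨⟨g, hg⟩ * z * ⟨g, hg⟩⁻¹, hZn.conj_mem z hz ⟨g, hg⟩, rfl⟩
          intro x
          refine ⟨key h hh x, fun hx => ?_⟩
          have h2 := key h⁻¹ (inv_mem hh) _ hx
          have h3 : h⁻¹ * (h * x * h⁻¹) * h⁻¹⁻¹ = x := by group
          rwa [h3] at h2
        have hZG1 : Z.map H.subtype ≠ ⊥ := fun h =>
          hZ1 ((map_eq_bot_iff_of_injective Z H.subtype_injective).1 h)
        have hZGsol : Group.IsSolvable (Z.map H.subtype) := by
          have : Group.IsNilpotent (Z.map H.subtype) := (hZr.map H.subtype).isNilpotent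
          infer_instance
        exact isSolvable_of_isNilpotent_map _ H (map_subtype_le Z) hZGsol
          (hquot _ (map_subtype_le Z) hZG1)
      · have hcardM : Nat.card (M.map H.subtype) < Nat.card H := by
          rw [card_map_of_injective H.subtype_injective]
          exact lt_of_le_of_ne (Subgroup.card_le_card_group M)
            (fun h => hMtop (Subgroup.eq_top_of_card_eq M h))
        have hMnil : Group.IsNilpotent (M.map H.subtype) :=
          IH G (M.map H.subtype) t' hcardM (hmapG M hMe)
            (fun h hh => hsplit' h (map_subtype_le M hh))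
        have hMnil' : Group.IsNilpotent M :=
          (Group.isNilpotent_congr (M.equivMapOfInjective H.subtype H.subtype_injective)).2 hMnil
        have hMc := Cfsg.Agent.Solvable.FpfThompson.hasNormalPComplement_of_isNilpotent hMnil' r
        have hHc : HasNormalPComplement r H := (Cfsg.Agent.S0117.result hr2 R).2 hMc
        have hDchar := Cfsg.Agent.Transfer.Residual.pResidual_characteristic (G := H) r
        have hDn : (pResidual r H).Normal := inferInstance
        have hDG : ((pResidual r H).map H.subtype).Normal := inferInstance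
        have hDcop := Cfsg.Agent.Transfer.NormalPComplement.hasNormalPComplement_iff_coprime.1 hHc
        have hDne : pResidual r H ≠ ⊤ := by
          intro h
          rw [h, Subgroup.card_top] at hDcop
          exact (Nat.Prime.coprime_iff_not_dvd hr).1 hDcop.symm hrH
        have hcardD : Nat.card ((pResidual r H).map H.subtype) < Nat.card H := by
          rw [card_map_of_injective H.subtype_injective]
          exact lt_of_le_of_ne (Subgroup.card_le_card_group _)
            (fun h => hDne (Subgroup.eq_top_of_card_eq _ h))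
        have hDnil : Group.IsNilpotent ((pResidual r H).map H.subtype) :=
          IH G _ t' hcardD (by rw [normalizer_eq_top]; exact mem_top _)
            (fun h hh => hsplit' h (map_subtype_le _ hh))
        have hDnil' : Group.IsNilpotent (pResidual r H) :=
          (Group.isNilpotent_congr
            ((pResidual r H).equivMapOfInjective H.subtype H.subtype_injective)).2 hDnil
        have hq : IsPGroup r (H ⧸ pResidual r H) :=
          Cfsg.Agent.Transfer.NormalPComplement.isPGroup_quotient_pResidual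
        have hqnil : Group.IsNilpotent (H ⧸ pResidual r H) := hq.isNilpotent
        rw [Group.isSolvable_iff_subgroup_quotient (pResidual r H)]
        exact ⟨inferInstance, inferInstance⟩
    · push Not at hodd
      have h2 : IsPGroup 2 H := by
        rw [IsPGroup.iff_card]
        refine ⟨_, Nat.eq_prime_pow_of_unique_prime_dvd Nat.card_pos.ne' ?_⟩
        intro d hd hdvd
        by_contra hne
        exact hodd d hd hne hdvd
      have h2f : Fact (Nat.Prime 2) := ⟨Nat.prime_two⟩
      have h3 : Group.IsNilpotent H := h2.isNilpotent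
      infer_instance
  -- the solvable case
  by_cases hH1 : H = ⊥
  · subst hH1
    infer_instance
  obtain ⟨V, ⟨hVn, hVH, hV1⟩, hVmin⟩ :=
    (Set.toFinite {W : Subgroup G | W.Normal ∧ W ≤ H ∧ W ≠ ⊥}).exists_minimal ⟨H, hHn, le_rfl, hH1⟩
  have hcentral := central_of_minimal H t hp hsplit V hVH hV1 (by
    intro W hWn hWV
    by_cases hW1 : W = ⊥
    · exact Or.inl hW1
    · exact Or.inr (le_antisymm hWV (hVmin ⟨hWn, hWV.trans hVH, hW1⟩ hWV)))
  have hq := hquot V hVH hV1
  refine Subgroup.isNilpotent_of_ker_le_center ((QuotientGroup.mk' V).subgroupMap H) ?_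
  intro x hx
  have h2 : (QuotientGroup.mk' V) (x : G) = 1 := congrArg Subtype.val hx
  have h3 : (x : G) ∈ V := (QuotientGroup.eq_one_iff _).1 h2
  rw [mem_center_iff]
  intro g
  exact Subtype.ext (hcentral x h3 g g.2)

/-- **Kegel's theorem**, coset form. -/
theorem isNilpotent_of_coset {p : ℕ} (hp : p.Prime) : ∀ (n : ℕ) (G : Type u) [Group G] [Finite G]
    (H : Subgroup G) (t : G), Nat.card H = n → t ∈ normalizer (H : Set G) →
    (∀ h ∈ H, (h * t) ^ p = 1) → Group.IsNilpotent H := by
  intro n
  induction n using Nat.strong_induction_on with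
  | _ n IH =>
  intro G _ _ H t hn ht hsplit
  set L : Subgroup G := H ⊔ zpowers t with hL
  have hHL : H ≤ L := le_sup_left
  have htL : t ∈ L := (le_sup_right : zpowers t ≤ L) (mem_zpowers t)
  have hLn : L ≤ normalizer (H : Set G) := sup_le le_normalizer ((zpowers_le).2 ht)
  have hn' : (H.subgroupOf L).Normal := normal_subgroupOf_of_le_normalizer hLn
  have e : (H.subgroupOf L) ≃* H := subgroupOfEquivOfLe hHL
  have hcard : Nat.card (H.subgroupOf L) = n := by
    rw [Nat.card_congr e.toEquiv, hn]
  have h1 : Group.IsNilpotent (H.subgroupOf L) := by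
    refine step (H.subgroupOf L) ⟨t, htL⟩ hp ?_ ?_ ?_
    · intro h hh
      exact Subtype.ext (hsplit h hh)
    · apply map_injective L.subtype_injective
      rw [Subgroup.map_sup, subgroupOf_map_subtype, inf_eq_left.2 hHL, MonoidHom.map_zpowers,
        ← MonoidHom.range_eq_map, range_subtype]
      rfl
    · intro G' _ _ H' t' hlt ht' hs'
      rw [hcard] at hlt
      exact IH _ hlt G' H' t' rfl ht' hs'
  exact (Group.isNilpotent_congr e).1 h1

end Cfsg.Agent.H550.Kegel
end
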