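import Mathlib
import Cfsg.Agent.S0058
import Cfsg.Agent.H550.Kegel
set_option linter.all false

/-!
# The Hughes subgroup of a group which is not a `p`-group

`index_eq` : (Hughes–Thompson) if `H` is normal and proper in `G`, all elements outside `H` have
order `p`, and `G` is not a `p`-group, then `|G : H| = p`.
`isNilpotent` : (Kegel) then `H` is nilpotent.
-/

set_option autoImplicit false

namespace Cfsg.Agent.H550.Hughes

open Subgroup

universe u

/-- the subgroup `⟨y, z⟩` for commuting `y`, `z`. -/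
def pairSub {E : Type u} [Group E] (y z : E) (h : Commute y z) : Subgroup E where
  carrier := {a | ∃ i j : ℤ, a = y ^ i * z ^ j}
  one_mem' := ⟨0, 0, by simp⟩
  mul_mem' := by
    rintro _ _ ⟨i, j, rfl⟩ ⟨k, l, rfl⟩
    refine ⟨i + k, j + l, ?_⟩
    rw [zpow_add, zpow_add, mul_assoc, ← mul_assoc (z ^ j), ((h.zpow_zpow k j).eq).symm]
    group
  inv_mem' := by
    rintro _ ⟨i, j, rfl⟩
    refine ⟨-i, -j, ?_⟩
    rw [mul_inv_rev, zpow_neg, zpow_neg, ← zpow_neg, ← zpow_neg, (h.zpow_zpow (-i) (-j)).eq]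

theorem mem_pairSub {E : Type u} [Group E] {y z : E} {h : Commute y z} {a : E} :
    a ∈ pairSub y z h ↔ ∃ i j : ℤ, a = y ^ i * z ^ j := Iff.rfl

theorem pairSub_comm {E : Type u} [Group E] {y z : E} {h : Commute y z} {a b : E}
    (ha : a ∈ pairSub y z h) (hb : b ∈ pairSub y z h) : a * b = b * a := by
  obtain ⟨i, j, rfl⟩ := ha
  obtain ⟨k, l, rfl⟩ := hb
  have h1 : Commute (y ^ i * z ^ j) (y ^ k * z ^ l) := by
    refine Commute.mul_left ?_ ?_
    · exact ((Commute.refl y).zpow_zpow i k).mul_right (h.zpow_zpow i l)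
    · exact (h.symm.zpow_zpow j k).mul_right ((Commute.refl z).zpow_zpow j l)
  exact h1.eq

theorem zpow_eq_of_dvd {E : Type u} [Group E] {y : E} {p : ℕ} (hy : y ^ p = 1) {i : ℤ}
    (hi : (p : ℤ) ∣ i) : y ^ i = 1 := by
  obtain ⟨k, rfl⟩ := hi
  rw [zpow_mul, zpow_natCast, hy, one_zpow]

/-- Coprime action of an elementary abelian group `⟨y, z⟩` all of whose elements outside `⟨z⟩`
are fixed-point-free. -/
theorem eq_one_of_fpf {Q : Type u} [Group Q] [Finite Q] [Nontrivial Q] {p : ℕ} (hp : p.Prime)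
    (hpQ : ¬ p ∣ Nat.card Q) (y z : MulAut Q) (hyz : Commute y z) (hy : y ^ p = 1)
    (hz : z ^ p = 1)
    (hfpf : ∀ i j : ℤ, ¬ (p : ℤ) ∣ i → ∀ u : Q, (y ^ i * z ^ j) u = u → u = 1) : z = 1 := by
  classical
  by_contra hz1
  have hpf : Fact p.Prime := ⟨hp⟩
  obtain ⟨u₀, hu₀⟩ := exists_ne (1 : Q)
  set S := Q ⋊[MonoidHom.id (MulAut Q)] MulAut Q with hS
  have : Finite S := Finite.of_equiv _ SemidirectProduct.equivProd.symm
  set K : Subgroup S := (SemidirectProduct.inl : Q →* S).range with hK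
  set E : Subgroup (MulAut Q) := pairSub y z hyz with hE
  set A : Subgroup S := E.map (SemidirectProduct.inr : MulAut Q →* S) with hA
  have hinr : Function.Injective (SemidirectProduct.inr : MulAut Q →* S) :=
    SemidirectProduct.inr_injective
  have hyE : y ∈ E := ⟨1, 0, by simp⟩
  have hzE : z ∈ E := ⟨0, 1, by simp⟩
  have hEp : ∀ a ∈ E, a ^ p = 1 := by
    rintro _ ⟨i, j, rfl⟩
    rw [(hyz.zpow_zpow i j).mul_pow, ← zpow_natCast, ← zpow_natCast, ← zpow_mul, ← zpow_mul,
      zpow_eq_of_dvd hy (dvd_mul_left _ _), zpow_eq_of_dvd hz (dvd_mul_left _ _), one_mul]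
  have hEpg : IsPGroup p E := by
    rw [isPGroup_iff_pow_pow_eq_one]
    intro a
    exact ⟨1, Subtype.ext (by rw [pow_one]; exact hEp a a.2)⟩
  have hncE : ¬ IsCyclic E := by
    intro hcyc
    obtain ⟨⟨g, hg⟩, hgen⟩ := hcyc.exists_generator
    obtain ⟨a, ha⟩ := hgen ⟨z, hzE⟩
    obtain ⟨b, hb⟩ := hgen ⟨y, hyE⟩
    have ha' : g ^ a = z := congrArg Subtype.val ha
    have hb' : g ^ b = y := congrArg Subtype.val hb
    have hpa : ¬ (p : ℤ) ∣ a := by
      intro h
      rw [zpow_eq_of_dvd (hEp g hg) h] at ha'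
      exact hz1 ha'.symm
    -- `y = z ^ k`
    have hcop : IsCoprime a (p : ℤ) :=
      ((Nat.prime_iff_prime_int.1 hp).coprime_iff_not_dvd.2 hpa).symm
    obtain ⟨m, n, hmn⟩ := hcop
    have hgz : g = z ^ m := by
      have h1 : g ^ (m * a + n * (p : ℤ)) = g := by rw [hmn, zpow_one]
      rw [zpow_add, mul_comm m, zpow_mul, ha', zpow_eq_of_dvd (hEp g hg) (dvd_mul_left _ _),
        mul_one] at h1
      exact h1.symm
    have h2 : (y ^ (1 : ℤ) * z ^ (-(m * b)) : MulAut Q) u₀ = u₀ := by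
      rw [zpow_one, ← hb', hgz, ← zpow_mul, ← zpow_add]
      simp
    refine hu₀ (hfpf 1 _ ?_ u₀ h2)
    intro h
    have h3 := Int.le_of_dvd one_pos h
    have h4 := hp.two_le
    omega
  have hncA : ¬ IsCyclic A := by
    intro h
    exact hncE (((E.equivMapOfInjective _ hinr).isCyclic).2 h)
  have hAc : IsMulCommutative A := by
    constructor
    constructor
    rintro ⟨_, a, ha, rfl⟩ ⟨_, b, hb, rfl⟩
    apply Subtype.ext
    change SemidirectProduct.inr a * SemidirectProduct.inr b =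
      SemidirectProduct.inr b * SemidirectProduct.inr a
    rw [← map_mul, ← map_mul, pairSub_comm ha hb]
  have hact : ∀ (a : MulAut Q) (x : Q), (SemidirectProduct.inr a : S) * SemidirectProduct.inl x *
      (SemidirectProduct.inr a)⁻¹ = SemidirectProduct.inl (a x) := by
    intro a x
    rw [← map_inv]
    exact (SemidirectProduct.inl_aut a x).symm
  have hAK : A ≤ normalizer (K : Set S) := by
    have hKn : K.Normal := by
      rw [hK, SemidirectProduct.range_inl_eq_ker_rightHom]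
      infer_instance
    rw [normalizer_eq_top]
    exact le_top
  have hcop : (Nat.card A).Coprime (Nat.card K) := by
    rw [Nat.card_congr (E.equivMapOfInjective _ hinr).symm.toEquiv]
    have h1 : Nat.card K = Nat.card Q :=
      (Nat.card_congr (MonoidHom.ofInjective SemidirectProduct.inl_injective).toEquiv).symm
    rw [h1]
    obtain ⟨n, hn⟩ := IsPGroup.iff_card.mp hEpg
    rw [hn]
    exact Nat.Coprime.pow_left n ((Nat.Prime.coprime_iff_not_dvd hp).2 hpQ)
  have key := Cfsg.Agent.S0058.result A K hncA hAK hcop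
  -- all elements of `K` commute with `z`
  have hle : K ≤ centralizer {(SemidirectProduct.inr z : S)} := by
    rw [← key]
    refine iSup₂_le ?_
    rintro _ ⟨⟨a, ha, rfl⟩, ha1⟩
    obtain ⟨i, j, rfl⟩ := ha
    rintro _ ⟨⟨u, rfl⟩, hu⟩
    have hu' := mem_centralizer_iff.1 hu _ (Set.mem_singleton _)
    have h1 : (y ^ i * z ^ j) u = u := by
      have h2 := hact (y ^ i * z ^ j) u
      rw [hu', mul_inv_cancel_right] at h2
      exact (SemidirectProduct.inl_injective h2).symm
    have h3 : z u = u := by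
      by_cases hi : (p : ℤ) ∣ i
      · rw [zpow_eq_of_dvd hy hi, one_mul] at h1
        have hj : ¬ (p : ℤ) ∣ j := by
          intro hj
          apply ha1
          rw [zpow_eq_of_dvd hy hi, zpow_eq_of_dvd hz hj, one_mul, map_one]
        obtain ⟨m, n, hmn⟩ : IsCoprime j (p : ℤ) :=
          ((Nat.prime_iff_prime_int.1 hp).coprime_iff_not_dvd.2 hj).symm
        have h4 : z = (z ^ j) ^ m := by
          conv_lhs => rw [← zpow_one z, ← hmn, zpow_add,
            zpow_eq_of_dvd hz (dvd_mul_left _ _), mul_one, mul_comm, zpow_mul]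
        have h5 : ∀ w : MulAut Q, w u = u → ∀ m : ℤ, (w ^ m) u = u := by
          intro w hw m
          have h6 : w ∈ MulAction.stabilizer (MulAut Q) u := hw
          exact zpow_mem h6 m
        rw [h4]
        exact h5 _ h1 m
      · rw [hfpf i j hi u h1, map_one]
    rw [mem_centralizer_iff]
    intro b hb
    rw [Set.mem_singleton_iff] at hb
    subst hb
    have h7 := hact z u
    rw [h3] at h7
    exact mul_inv_eq_iff_eq_mul.1 h7
  apply hz1
  ext u
  have h8 := mem_centralizer_iff.1 (hle ⟨u, rfl⟩) _ (Set.mem_singleton _)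
  have h9 := hact z u
  rw [h8, mul_inv_cancel_right] at h9
  exact (SemidirectProduct.inl_injective h9).symm


/-- **Hughes–Thompson.** `G` finite, `H` a proper normal subgroup such that all elements outside
`H` have order `p`, `G` not a `p`-group. Then there is `z ∉ H` with `H ⟨z⟩ = G`. -/
theorem exists_generator {G : Type u} [Group G] [Finite G] {p : ℕ} (hp : p.Prime)
    (hG : ¬ IsPGroup p G) (H : Subgroup G) [H.Normal] (hHtop : H ≠ ⊤)
    (hH : ∀ g : G, g ∉ H → g ^ p = 1) : ∃ z : G, z ∉ H ∧ H ⊔ zpowers z = ⊤ := by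
  classical
  have hpf : Fact p.Prime := ⟨hp⟩
  -- a prime `q ≠ p` dividing `|G|`
  obtain ⟨q, hq, hqp, hqG⟩ : ∃ q : ℕ, q.Prime ∧ q ≠ p ∧ q ∣ Nat.card G := by
    by_contra hcon
    push Not at hcon
    apply hG
    rw [IsPGroup.iff_card]
    refine ⟨_, Nat.eq_prime_pow_of_unique_prime_dvd Nat.card_pos.ne' ?_⟩
    intro d hd hdvd
    by_contra hne
    exact hcon d hd hne hdvd
  have hqf : Fact q.Prime := ⟨hq⟩
  obtain ⟨Q⟩ : Nonempty (Sylow q G) := inferInstance
  have hQ1 : (Q : Subgroup G) ≠ ⊥ := by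
    intro h
    have h2 := Q.card_eq_multiplicity
    rw [h, Subgroup.card_bot] at h2
    have h3 : 0 < (Nat.card G).factorization q :=
      hq.factorization_pos_of_dvd Nat.card_pos.ne' hqG
    exact absurd h2.symm (Nat.one_lt_pow h3.ne' hq.one_lt).ne'
  have hQnt : Nontrivial (Q : Subgroup G) := (nontrivial_iff_ne_bot _).2 hQ1
  have hpow : ∀ u ∈ (Q : Subgroup G), u ^ p = 1 → u = 1 := by
    intro u hu hup
    obtain ⟨m, hm⟩ := (IsPGroup.iff_orderOf.1 Q.2) ⟨u, hu⟩
    rw [Subgroup.orderOf_mk] at hm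
    have h1 := orderOf_dvd_of_pow_eq_one hup
    have h2 : Nat.Coprime (q ^ m) p := Nat.Coprime.pow_left m ((Nat.coprime_primes hq hp).2 hqp)
    rw [hm] at h1
    have h4 : q ^ m = 1 := Nat.eq_one_of_dvd_coprimes h2 dvd_rfl h1
    rwa [h4, orderOf_eq_one_iff] at hm
  have hQH : (Q : Subgroup G) ≤ H := by
    intro u hu
    by_contra huH
    exact huH ((hpow u hu (hH u huH)) ▸ one_mem H)
  -- a `p`-subgroup `A` of `N(Q)` with `H A = G`
  set N : Subgroup G := normalizer ((Q : Subgroup G) : Set G) with hN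
  have hfr : N ⊔ H = ⊤ := Sylow.normalizer_sup_eq_top' Q hQH
  obtain ⟨P₁⟩ : Nonempty (Sylow p N) := inferInstance
  set A : Subgroup G := (P₁ : Subgroup N).map N.subtype with hA
  have hAN : A ≤ N := map_subtype_le _
  have hAp : IsPGroup p A := P₁.2.map _
  have hAH : H ⊔ A = ⊤ := by
    set π : N →* G ⧸ H := (QuotientGroup.mk' H).comp N.subtype with hπ
    have hπs : Function.Surjective π := by
      intro x
      obtain ⟨g, rfl⟩ := QuotientGroup.mk'_surjective H x
      have hg : g ∈ N ⊔ H := by rw [hfr]; exact mem_top g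
      obtain ⟨n, hn, h, hh, rfl⟩ := mem_sup_of_normal_right.1 hg
      refine ⟨⟨n, hn⟩, ?_⟩
      change (QuotientGroup.mk' H) n = (QuotientGroup.mk' H) (n * h)
      rw [map_mul, (QuotientGroup.eq_one_iff h).2 hh |> fun h2 => (show (QuotientGroup.mk' H) h = 1 from h2), mul_one]
    have hqp' : IsPGroup p (G ⧸ H) := by
      rw [isPGroup_iff_pow_pow_eq_one]
      intro x
      obtain ⟨g, rfl⟩ := QuotientGroup.mk'_surjective H x
      refine ⟨1, ?_⟩
      rw [pow_one, ← map_pow]
      by_cases hg : g ∈ H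
      · exact (QuotientGroup.eq_one_iff _).2 (pow_mem hg p)
      · rw [hH g hg, map_one]
    have h1 : ((P₁ : Subgroup N).map π) = ⊤ := by
      have h2 := (P₁.mapSurjective hπs).2
      have h3 : ((P₁.mapSurjective hπs : Sylow p (G ⧸ H)) : Subgroup (G ⧸ H)) = ⊤ := by
        have h4 := (P₁.mapSurjective hπs).is_maximal' (Q := ⊤) (hqp'.to_subgroup ⊤) le_top
        exact h4.symm
      exact h3
    rw [eq_top_iff]
    intro g _
    have h2 : (QuotientGroup.mk' H) g ∈ (P₁ : Subgroup N).map π := by rw [h1]; exact mem_top _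
    obtain ⟨a, ha, hag⟩ := h2
    have h3 : (a : G)⁻¹ * g ∈ H := QuotientGroup.eq.1 hag
    have h4 : g = (a : G) * ((a : G)⁻¹ * g) := by group
    rw [h4]
    exact mul_mem ((le_sup_right : A ≤ _) ⟨a, ha, rfl⟩) ((le_sup_left : H ≤ _) h3)
  -- the action of `A` on `Q`
  have hQn : ((Q : Subgroup G).subgroupOf N).Normal := by rw [hN]; infer_instance
  set ρ : A →* MulAut (Q : Subgroup G) :=
    (MulAut.conjNormal (H := (Q : Subgroup G).subgroupOf N)).comp (inclusion hAN) |> fun f =>
      ((MulAut.congr (subgroupOfEquivOfLe (le_normalizer : (Q : Subgroup G) ≤ N))).toMonoidHom).comp f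
    with hρ
  have hρa : ∀ (a : A) (u : (Q : Subgroup G)), ((ρ a u : (Q : Subgroup G)) : G) = a * u * (a : G)⁻¹ := by
    intro a u
    rfl
  have hfpf : ∀ a : A, (a : G) ∉ H → ∀ u, ρ a u = u → u = 1 := by
    intro a ha u hu
    have h1 : (a : G) * u * (a : G)⁻¹ = u := by rw [← hρa, hu]
    have h2 : Commute (a : G) u := mul_inv_eq_iff_eq_mul.1 h1
    have h3 : (a : G) * u ∉ H := by
      intro h
      exact ha ((mul_mem_cancel_right (hQH u.2)).1 h)
    have h4 := hH _ h3
    rw [h2.mul_pow, hH _ ha, one_mul] at h4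
    exact Subtype.ext (hpow u u.2 h4)
  obtain ⟨u₀, hu₀⟩ := exists_ne (1 : (Q : Subgroup G))
  have hker : ∀ a : A, ρ a = 1 → (a : G) ∈ H := by
    intro a ha
    by_contra haH
    exact hu₀ (hfpf a haH u₀ (by rw [ha]; rfl))
  obtain ⟨a₀, ha₀, ha₀H⟩ : ∃ a ∈ A, a ∉ H := by
    by_contra hcon
    push Not at hcon
    apply hHtop
    rw [← hAH]
    exact (sup_eq_left.2 hcon).symm
  have hRnt : Nontrivial ρ.range := by
    rw [nontrivial_iff_ne_bot]
    intro h
    have h1 : ρ ⟨a₀, ha₀⟩ ∈ ρ.range := ⟨_, rfl⟩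
    rw [h, mem_bot] at h1
    exact ha₀H (hker _ h1)
  have hRp : IsPGroup p ρ.range := by
    have h1 := hAp.of_surjective ρ.rangeRestrict ρ.rangeRestrict_surjective
    exact h1
  have hcnt := hRp.center_nontrivial
  have hcp : IsPGroup p (center ρ.range) := hRp.to_subgroup _
  have hdvd : p ∣ Nat.card (center ρ.range) := by
    obtain ⟨n, hn⟩ := IsPGroup.iff_card.mp hcp
    rw [hn]
    refine dvd_pow_self p ?_
    rintro rfl
    rw [pow_zero, Nat.card_eq_one_iff_unique] at hn
    exact not_subsingleton _ hn.1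
  obtain ⟨c, hc⟩ := exists_prime_orderOf_dvd_card' p hdvd
  obtain ⟨z, hz⟩ := (c : ρ.range).2
  have hz1 : ρ z ≠ 1 := by
    intro h
    rw [hz] at h
    have h1 : c = 1 := Subtype.ext (Subtype.ext h)
    rw [h1, orderOf_one] at hc
    exact hp.one_lt.ne hc
  have hzp : (ρ z) ^ p = 1 := by
    have h1 : c ^ p = 1 := by rw [← hc]; exact pow_orderOf_eq_one c
    have h2 : ((c ^ p : center ρ.range) : ρ.range) = 1 := by rw [h1]; rfl
    rw [hz]
    exact congrArg Subtype.val h2
  have hzc : ∀ a : A, Commute (ρ a) (ρ z) := by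
    intro a
    have h1 := (mem_center_iff.1 c.2) ⟨ρ a, ⟨a, rfl⟩⟩
    have h2 := congrArg Subtype.val h1
    rw [hz]
    exact h2
  have hpQ : ¬ p ∣ Nat.card (Q : Subgroup G) := by
    obtain ⟨n, hn⟩ := IsPGroup.iff_card.mp Q.2
    intro h
    rw [hn] at h
    exact hqp ((Nat.prime_dvd_prime_iff_eq hp hq).1 (hp.dvd_of_dvd_pow h)).symm
  have hAle : A ≤ H ⊔ zpowers (z : G) := by
    intro y hy
    by_contra hyH
    have hyH' : y ∉ H := fun h => hyH ((le_sup_left : H ≤ _) h)
    refine hz1 (eq_one_of_fpf hp hpQ (ρ ⟨y, hy⟩) (ρ z) (hzc _) ?_ hzp ?_)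
    · rw [← map_pow]
      have h1 : (⟨y, hy⟩ : A) ^ p = 1 := Subtype.ext (hH y hyH')
      rw [h1, map_one]
    · intro i j hi u hu
      rw [← map_zpow, ← map_zpow, ← map_mul] at hu
      refine hfpf _ ?_ u hu
      intro hmem
      have h1 : y ^ i * (z : G) ^ j ∈ H := hmem
      have h2 : y ^ i ∈ H ⊔ zpowers (z : G) := by
        have h3 : y ^ i = (y ^ i * (z : G) ^ j) * ((z : G) ^ j)⁻¹ := by group
        rw [h3]
        exact mul_mem ((le_sup_left : H ≤ _) h1)
          (inv_mem (zpow_mem ((le_sup_right : zpowers (z : G) ≤ _) (mem_zpowers _)) j))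
      obtain ⟨m, n, hmn⟩ : IsCoprime i (p : ℤ) :=
        ((Nat.prime_iff_prime_int.1 hp).coprime_iff_not_dvd.2 hi).symm
      apply hyH
      have h4 : y = (y ^ i) ^ m := by
        conv_lhs => rw [← zpow_one y, ← hmn, zpow_add,
          zpow_eq_of_dvd (hH y hyH') (dvd_mul_left _ _), mul_one, mul_comm, zpow_mul]
      rw [h4]
      exact zpow_mem h2 m
  refine ⟨z, ?_, ?_⟩
  · intro hzH
    apply hHtop
    rw [← hAH]
    refine (sup_eq_left.2 (hAle.trans (sup_le le_rfl ?_))).symm
    rwa [zpowers_le]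
  · rw [eq_top_iff, ← hAH]
    exact sup_le le_sup_left hAle

/-- **Hughes–Thompson–Kegel.** `G` finite, `H` a proper normal subgroup such that all elements
outside `H` have order `p`, `G` not a `p`-group. Then `H` is nilpotent and has index `p`. -/
theorem isNilpotent_and_index {G : Type u} [Group G] [Finite G] {p : ℕ} (hp : p.Prime)
    (hG : ¬ IsPGroup p G) (H : Subgroup G) [hHn : H.Normal] (hHtop : H ≠ ⊤)
    (hH : ∀ g : G, g ∉ H → g ^ p = 1) : Group.IsNilpotent H ∧ H.index = p := by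
  obtain ⟨z, hz, hgen⟩ := exists_generator hp hG H hHtop hH
  have hzp : z ^ p = 1 := hH z hz
  constructor
  · refine Kegel.isNilpotent_of_coset hp _ G H z rfl (by rw [normalizer_eq_top]; exact mem_top z) ?_
    intro h hh
    apply hH
    intro h2
    exact hz ((mul_mem_cancel_left hh).1 h2)
  · have hpf : Fact p.Prime := ⟨hp⟩
    have h1 : orderOf (QuotientGroup.mk' H z) = p := by
      refine orderOf_eq_prime_iff.2 ⟨?_, ?_⟩
      · rw [← map_pow, hzp, map_one]
      · intro h
        exact hz ((QuotientGroup.eq_one_iff z).1 h)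
    rw [Subgroup.index, ← h1]
    symm
    apply orderOf_eq_card_of_forall_mem_zpowers
    intro x
    obtain ⟨g, rfl⟩ := QuotientGroup.mk'_surjective H x
    have hg : g ∈ H ⊔ zpowers z := by rw [hgen]; exact mem_top g
    obtain ⟨h, hh, y, ⟨k, rfl⟩, rfl⟩ := mem_sup_of_normal_left.1 hg
    refine ⟨k, ?_⟩
    have h2 : (QuotientGroup.mk' H) h = 1 := (QuotientGroup.eq_one_iff h).2 hh
    rw [map_mul, h2, one_mul]
    simp

end Cfsg.Agent.H550.Hughes
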